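import Groth.Agent.Lib.DeRhamVan15.Finite
import Groth.Agent.S9387

/-!
# Finiteness of de Rham cohomology of proper schemes
-/

set_option backward.isDefEq.respectTransparency false
set_option maxHeartbeats 1600000

universe u

open CategoryTheory CategoryTheory.Limits DerivedCategory AlgebraicGeometry Opposite TopologicalSpace

namespace GrothLib.DeRhamVan15

/-- The constant sheaf representing global cohomology. -/
noncomputable abbrev constZ (X : Scheme.{u}) : Sheaf (Opens.grothendieckTopology ↥X) AddCommGrpCat.{u} :=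
  (constantSheaf (Opens.grothendieckTopology ↥X) AddCommGrpCat.{u}).obj (AddCommGrpCat.of (ULift ℤ))

variable {R : Type u} [CommRing R] [IsNoetherianRing R] {X : Scheme.{u}} (c : R →+* Coh.Γtop X)
  [HasDerivedCategory.{u} (Sheaf (Opens.grothendieckTopology ↥X) AddCommGrpCat.{u})]

/-- Finiteness of cohomology gives finiteness of the morphisms into the single complexes. -/
theorem finite_HM_single (M : X.Modules) (hfin : ∀ k : ℕ,
      letI := Module.compHom (Coh.HH X M k) c
      Module.Finite R (Coh.HH X M k))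
    (N : Sheaf (Opens.grothendieckTopology ↥X) AddCommGrpCat.{u}) (e : N ≅ Coh.toAb M) (σ : R →+* End N)
    (hσ : ∀ a, (σ a : N ⟶ N) ≫ e.hom = e.hom ≫ Coh.smulAb M (c a)) (j : ℤ) :
    Module.Finite R (HM ((singleFunctor _ 0).obj (constZ X)) ((endMap (singleFunctor _ j) N).comp σ)) := by
  rcases lt_or_ge 0 j with hj | hj
  · haveI : Subsingleton (HM ((singleFunctor _ 0).obj (constZ X)) ((endMap (singleFunctor _ j) N).comp σ)) :=
      subsingleton_of_forall_eq 0 fun φ =>
        TStructure.t.zero_of_isLE_of_isGE (HM.hom φ) 0 j hj inferInstance inferInstance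
    infer_instance
  · obtain ⟨k, rfl⟩ : ∃ k : ℕ, j = -(k : ℤ) := ⟨(-j).toNat, by omega⟩
    letI := Module.compHom (Coh.HH X M k) c
    haveI := hfin k
    let v : (singleFunctor _ (-(k : ℤ))).obj N ≅
        ((singleFunctor _ 0).obj (Coh.toAb M))⟦(k : ℤ)⟧ :=
      (singleFunctor _ (-(k : ℤ))).mapIso e ≪≫
        (((singleFunctors (Sheaf (Opens.grothendieckTopology ↥X) AddCommGrpCat.{u})).shiftIso (k : ℤ) (-(k : ℤ)) 0
          (by omega)).app (Coh.toAb M)).symm
    have hv : ∀ a, (singleFunctor _ (-(k : ℤ))).map (σ a) ≫ v.hom =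
        v.hom ≫ ((singleFunctor _ 0).map (Coh.smulAb M (c a)))⟦(k : ℤ)⟧' := by
      intro a
      simp only [v, Iso.trans_hom, Functor.mapIso_hom, Iso.symm_hom, Iso.app_inv, Category.assoc]
      rw [← Functor.map_comp_assoc, hσ, Functor.map_comp_assoc]
      congr 1
      exact ((singleFunctors (Sheaf (Opens.grothendieckTopology ↥X) AddCommGrpCat.{u})).shiftIso (k : ℤ) (-(k : ℤ)) 0
          (by omega)).inv.naturality (Coh.smulAb M (c a))
    let L : HM ((singleFunctor _ 0).obj (constZ X)) ((endMap (singleFunctor _ (-(k : ℤ))) N).comp σ) →ₗ[R]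
        Coh.HH X M k :=
      { toFun := fun x => Abelian.Ext.homEquiv.symm (HM.hom x ≫ v.hom)
        map_add' := fun x y => Abelian.Ext.homEquiv.injective (by
          rw [Equiv.apply_symm_apply]
          refine Eq.trans ?_ (Abelian.Ext.add_hom _ _).symm
          simp only [Abelian.Ext.hom, Equiv.apply_symm_apply]
          exact Preadditive.add_comp _ _ _ _ _ _)
        map_smul' := fun a x => Abelian.Ext.homEquiv.injective (by
          rw [Equiv.apply_symm_apply]
          show (HM.hom x ≫ (singleFunctor _ (-(k : ℤ))).map (σ a)) ≫ v.hom =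
            ((Abelian.Ext.homEquiv.symm (HM.hom x ≫ v.hom)).comp (Abelian.Ext.mk₀ (Coh.smulAb M (c a))) (add_zero k)).hom
          rw [Abelian.Ext.comp_hom, Abelian.Ext.mk₀_hom, ShiftedHom.comp_mk₀, Category.assoc, hv a]
          simp only [Abelian.Ext.hom, Equiv.apply_symm_apply, Category.assoc]) }
    haveI : IsNoetherian R (Coh.HH X M k) := isNoetherian_of_isNoetherianRing_of_finite R _
    exact Module.Finite.of_injective L fun x y h =>
      HM.hom.injective ((cancel_mono v.hom).1 (Abelian.Ext.homEquiv.symm.injective h))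

/-- De Rham cohomology of a proper scheme over a Noetherian ring is finite. -/
theorem finite_HdR_of_isProper (A : Type u) [CommRing A] [IsNoetherianRing A] (X : Scheme.{u})
    (f : X ⟶ Spec (CommRingCat.of A)) [IsProper f] (D : DeRhamSh.OmegaCx f)
    (h : KLinDR.TermwiseLinear (Coh.toGlobal f) D.K D.term D.iso)
    [HasDerivedCategory.{u} (Sheaf (Opens.grothendieckTopology ↥X) AddCommGrpCat.{u})] (i : ℤ) :
    Module.Finite A (KLinDR.HdR (Coh.toGlobal f) D h i) := by
  letI : X.Over (Spec (CommRingCat.of A)) := ⟨f⟩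
  haveI : IsProper (X ↘ Spec (CommRingCat.of A)) := ‹IsProper f›
  have hΩ : Coh.IsCoh (Omega.sheaf f) :=
    ⟨OmegaSheaf.isQuasicoherent_sheaf f, GrothLib.OmegaSheaf.isFT_sheaf f⟩
  have hfin : ∀ p k, letI := Module.compHom (Coh.HH X (D.term p) k) (Coh.toGlobal f)
      Module.Finite A (Coh.HH X (D.term p) k) := fun p k =>
    ProjCoh.moduleFinite_HH A (D.term p) (DetMod12.isCoh_of_isExtPow hΩ (D.isExtPow p)) k
  haveI : D.KZ.IsStrictlyGE 0 := by
    rw [CochainComplex.isStrictlyGE_iff]
    intro q hq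
    exact D.K.isZero_extend_X _ _ fun j hj => by
      simp only [ComplexShape.embeddingUpNat_f] at hj
      omega
  let e : CohCx.freeSheaf (Opens.grothendieckTopology ↥X) (⊤ : X.Opens) ≅ constZ X := Cohom.freeTopIso
  haveI : Module.Finite A (HM ((singleFunctor _ 0).obj (constZ X)) (actD D.KZ (KLinDR.scalar h) i)) := by
    refine finite_of_terms_GE (constZ X) D.KZ (KLinDR.scalar h) (fun q hq j => ?_) i
    obtain ⟨p, rfl⟩ := Int.eq_ofNat_of_zero_le hq
    refine finite_HM_single (Coh.toGlobal f) (D.term p) (hfin p) (D.KZ.X (p : ℤ))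
      (D.K.extendXIso ComplexShape.embeddingUpNat (ComplexShape.embeddingUpNat_f p) ≪≫ D.iso p) _ (fun a => ?_) j
    show (KLinDR.scalar h a : D.KZ ⟶ D.KZ).f (p : ℤ) ≫ _ = _
    rw [KLinDR.scalar_f, KLinDR.scalarEnd]
    simp only [Iso.trans_hom, Category.assoc, Iso.inv_hom_id_assoc, Iso.inv_hom_id, Category.comp_id]
  let L : HM ((singleFunctor _ 0).obj (constZ X)) (actD D.KZ (KLinDR.scalar h) i) →ₗ[A]
      KLinDR.HdR (Coh.toGlobal f) D h i :=
    { toFun := fun x => KLinDR.HTρ.toHT.symm ((singleFunctor _ 0).map e.hom ≫ HM.hom x)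
      map_add' := fun x y => Preadditive.comp_add _ _ _ _ _ _
      map_smul' := fun a x => (Category.assoc _ _ _).symm }
  refine Module.Finite.of_surjective L fun y => ?_
  refine ⟨HM.hom.symm ((singleFunctor _ 0).map e.inv ≫ KLinDR.HTρ.toHT y), ?_⟩
  show (singleFunctor _ 0).map e.hom ≫ (singleFunctor _ 0).map e.inv ≫ KLinDR.HTρ.toHT y = KLinDR.HTρ.toHT y
  rw [← Functor.map_comp_assoc, Iso.hom_inv_id, CategoryTheory.Functor.map_id, Category.id_comp]

end GrothLib.DeRhamVan15
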