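import Groth.Agent.Lib.CechHyper25.Main
import Groth.Agent.Lib.GrothSS.Site
import Groth.Agent.Lib.BCCoh.MapExtend
import Groth.Prelude.Def_CohCx
import Mathlib.Algebra.Homology.Embedding.ExtendHomology

/-!
# Hypercohomology of complexes of sheaves acyclic for global sections
-/

set_option autoImplicit false
set_option backward.isDefEq.respectTransparency false
set_option backward.isDefEq.respectTransparency.types false

universe u

open CategoryTheory CategoryTheory.Limits Opposite TopologicalSpace

namespace GrothLib.DeRhamVan15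

/-- Hypercohomology of a bounded below complex of acyclic sheaves is the cohomology of its global sections. -/
theorem nonempty_glob_homology_addEquiv {X : TopCat.{u}} [HasDerivedCategory.{u} (CohTop.Ab X)]
    (K : CochainComplex (CohTop.Ab X) ℕ)
    (h : ∀ (p : ℕ) (r : ℕ), Subsingleton (CohTop.HU (K.X p) (r + 1) ⊤)) (n : ℕ) :
    Nonempty ((((GrothSS.secAt (Opens.grothendieckTopology X) (⊤ : Opens X)).mapHomologicalComplex _).obj K).homology n ≃+
      CohCx.HDU (DerivedCategory.Q.obj (K.extend ComplexShape.embeddingUpNat)) (n : ℤ) (⊤ : Opens X)) := by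
  let J := Opens.grothendieckTopology X
  let S := GrothSS.secAt J (⊤ : Opens X)
  let L : CochainComplex (CohTop.Ab X) ℤ := K.extend ComplexShape.embeddingUpNat
  haveI : L.IsStrictlyGE 0 := by
    rw [CochainComplex.isStrictlyGE_iff]
    intro q hq
    exact K.isZero_extend_X _ _ fun j hj => by
      simp only [ComplexShape.embeddingUpNat_f] at hj
      omega
  obtain ⟨I, i, hi, hI, hIge⟩ := CochainComplex.Plus.modelCategoryQuillen.exists_quasiIso_injective L 0
  haveI : I.IsKInjective := CochainComplex.isKInjective_of_injective I 0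
  haveI : IsIso (DerivedCategory.Q.map i) :=
    (DerivedCategory.isIso_Q_map_iff_quasiIso _ i).2 inferInstance
  have hK : ∀ q : ℤ, GrothSS.IsAcyclicObj S (L.X q) := by
    intro q r
    refine IsZero.of_iso ?_ (GrothSS.rightDerivedSecAtIso J (⊤ : Opens X) (L.X q) (r + 1))
    haveI : Subsingleton (CohSite.HU (L.X q) (r + 1) (⊤ : Opens X)) := by
      by_cases hq : 0 ≤ q
      · obtain ⟨p, rfl⟩ := Int.eq_ofNat_of_zero_le hq
        haveI := h p r
        exact ((((Sheaf.cohomologyPresheafFunctor J (r + 1)).mapIso
          (K.extendXIso ComplexShape.embeddingUpNat (i := p) (i' := (p : ℤ)) rfl)).app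
            (op (⊤ : Opens X))).addCommGroupIsoToAddEquiv).toEquiv.subsingleton
      · exact AddCommGrpCat.subsingleton_of_isZero ((((S.rightDerived (r + 1)).map_isZero
          (L.isZero_of_isStrictlyGE 0 q (by omega)))).of_iso
            (GrothSS.rightDerivedSecAtIso J (⊤ : Opens X) (L.X q) (r + 1)).symm)
    exact AddCommGrpCat.isZero_of_subsingleton _
  haveI : PreservesFiniteLimits S := GrothSS.preservesFiniteLimits_secAt (J := J) _
  haveI hqi : QuasiIso ((S.mapHomologicalComplex (ComplexShape.up ℤ)).map i) :=
    GrothSS.quasiIso_map S i 0 hK (fun q => GrothSS.isAcyclicObj_of_injective _ _)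
  obtain ⟨e⟩ := CechHyper25.nonempty_glob_homology_addEquiv I (L := DerivedCategory.Q.obj L)
    (asIso (DerivedCategory.Q.map i)).symm (n : ℤ)
  let a := isoOfQuasiIsoAt ((S.mapHomologicalComplex (ComplexShape.up ℤ)).map i) (n : ℤ)
  let b := (HomologicalComplex.homologyMapIso (BCCoh.mapExtendIso ComplexShape.embeddingUpNat S K) (n : ℤ)) ≪≫
    ((S.mapHomologicalComplex _).obj K).extendHomologyIso ComplexShape.embeddingUpNat (j := n) (j' := (n : ℤ)) rfl
  exact ⟨((b.symm ≪≫ a).addCommGroupIsoToAddEquiv).trans e⟩

end GrothLib.DeRhamVan15
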