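import Groth.Agent.Lib.DeRhamVan15.Semilinear
import Groth.Agent.Lib.DeRhamVan15.Sections
import Groth.Agent.Lib.OmAff9.Basic
import Groth.Agent.Lib.Cohom.Affine
import Groth.Agent.Lib.DetMod12.ExtCoh
import Groth.Prelude.Def_DeRham2

/-!
# De Rham cohomology of affine schemes
-/

set_option backward.isDefEq.respectTransparency false
set_option backward.isDefEq.respectTransparency.types false
set_option maxHeartbeats 1000000

universe u

open CategoryTheory CategoryTheory.Limits AlgebraicGeometry Opposite TopologicalSpace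

namespace GrothLib.DeRhamVan15

variable (R A : Type u) [CommRing R] [CommRing A] [Algebra R A]
  (D : DeRhamSh.OmegaCx (Spec.map (CommRingCat.ofHom (algebraMap R A))))

theorem subsingleton_HU_K (p r : ℕ) :
    Subsingleton (CohTop.HU (D.K.X p) (r + 1) (⊤ : (Spec (CommRingCat.of A)).Opens)) := by
  haveI : (Omega.sheaf (Spec.map (CommRingCat.ofHom (algebraMap R A)))).IsQuasicoherent :=
    OmegaSheaf.isQuasicoherent_sheaf _
  haveI := DetMod12.isQuasicoherent_of_isExtPow (D.isExtPow p)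
  haveI := Cohom.subsingleton_HH_of_isAffine (D.term p) (r + 1) (Nat.succ_pos r)
  let e : CohTop.HU (D.K.X p) (r + 1) (⊤ : (Spec (CommRingCat.of A)).Opens) ≃+
      CohTop.HU (Coh.toAb (D.term p)) (r + 1) (⊤ : (Spec (CommRingCat.of A)).Opens) :=
    (((Sheaf.cohomologyPresheafFunctor _ (r + 1)).mapIso (D.iso p)).app _).addCommGroupIsoToAddEquiv
  exact (e.trans ((SheafCoh.HUext (Coh.toAb (D.term p)) (r + 1) (⊤ : (Spec (CommRingCat.of A)).Opens)).trans
    (Cohom.HEquivTop (Coh.toAb (D.term p)) (r + 1)).symm)).toEquiv.subsingleton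

/-- The affine open `⊤`. -/
noncomputable def top : (Spec (CommRingCat.of A)).affineOpens := ⟨⊤, isAffineOpen_top _⟩

variable (d : ∀ p : ℕ, ↥(⋀[A]^p (Ω[A⁄R])) →ₗ[R] ↥(⋀[A]^(p + 1) (Ω[A⁄R])))

/-- The ring-level de Rham complex is the complex of global sections. -/
theorem nonempty_cx_iso (hd : DeRham.IsDiff (KaehlerDifferential.D R A) d) :
    Nonempty (((forget₂ (ModuleCat.{u} R) AddCommGrpCat.{u}).mapHomologicalComplex _).obj (DeRham.cx hd) ≅
      ((GrothSS.secAt (Opens.grothendieckTopology ↥(Spec (CommRingCat.of A)))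
        (⊤ : (Spec (CommRingCat.of A)).Opens)).mapHomologicalComplex _).obj D.K) := by
  let f := Spec.map (CommRingCat.ofHom (algebraMap R A))
  let J := Opens.grothendieckTopology ↥(Spec (CommRingCat.of A))
  let S := GrothSS.secAt J (⊤ : (Spec (CommRingCat.of A)).Opens)
  have hσ : Function.Bijective (OmAff.toΓ A) :=
    ConcreteCategory.bijective_of_isIso (Scheme.ΓSpecIso (CommRingCat.of A)).inv
  choose Φ hΦsmul hΦ using fun p => exists_extEquiv (OmAff.toΓ A) hσ (OmAff.toSpec R A) (OmAff9.bijective_toSpec R A) p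
  let Ψ : ∀ p, AddCommGrpCat.of ↥(⋀[A]^p (Ω[A⁄R])) ≅ S.obj (D.K.X p) := fun p =>
    (((Φ p).trans (D.loc p (top A)).symm.toAddEquiv).toAddCommGrpIso) ≪≫
      S.mapIso (D.iso p).symm
  refine ⟨HomologicalComplex.Hom.isoOfComponents Ψ fun i j hij => ?_⟩
  obtain rfl : i + 1 = j := hij
  ext x
  have h := DRFam.hom_ext (KaehlerDifferential.D R A) (KaehlerDifferential.span_range_derivation R A) (p := i)
    ((((S.mapHomologicalComplex _).obj D.K).d i (i + 1)).hom.comp (Ψ i).hom.hom)
    ((Ψ (i + 1)).hom.hom.comp (d i).toAddMonoidHom) fun b₀ b => ?_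
  · have hx := DFunLike.congr_fun h x
    refine hx.trans ?_
    show (Ψ (i + 1)).hom.hom (d i x) = _
    simp only [DeRham.cx, Functor.mapHomologicalComplex_obj_d, CochainComplex.of_d]
    rfl
  · show (D.K.d i (i + 1)).hom.app (op ⊤) ((D.iso i).inv.hom.app (op ⊤) ((D.loc i (top A)).symm
        (Φ i (b₀ • exteriorPower.ιMulti A i fun k => KaehlerDifferential.D R A (b k))))) =
      (D.iso (i + 1)).inv.hom.app (op ⊤) ((D.loc (i + 1) (top A)).symm
        (Φ (i + 1) (d i (DeRham.gen (KaehlerDifferential.D R A) i b₀ b))))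
    rw [hd.1 i b₀ b, hΦsmul, hΦ, hΦ]
    simp only [OmAff.toSpec_D]
    have e : (fun k => OmAff.toSpec R A (Fin.cons (α := fun _ => Ω[A⁄R]) (KaehlerDifferential.D R A b₀)
        (fun k => KaehlerDifferential.D R A (b k)) k)) =
      Fin.cons (α := fun _ => Γ(Omega.sheaf f, (⊤ : (Spec (CommRingCat.of A)).Opens))) ((OmegaSh.dOmega f).app ⊤ (OmAff.toΓ A b₀))
        (fun k => (OmegaSh.dOmega f).app ⊤ (OmAff.toΓ A (b k))) := by
      funext k
      refine Fin.cases ?_ (fun k => ?_) k
      · simp only [Fin.cons_zero]; exact OmAff.toSpec_D R A b₀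
      · simp only [Fin.cons_succ]; exact OmAff.toSpec_D R A (b k)
    rw [e]
    exact D.rule i (top A) (OmAff.toΓ A b₀) fun k => OmAff.toΓ A (b k)

/-- De Rham hypercohomology of an affine scheme is computed by the de Rham complex of the algebra. -/
theorem nonempty_HdR_addEquiv
    [HasDerivedCategory.{u} (Sheaf (Opens.grothendieckTopology ↥(Spec (CommRingCat.of A))) AddCommGrpCat.{u})]
    (hd : DeRham.IsDiff (KaehlerDifferential.D R A) d) (n : ℕ) :
    Nonempty (DeRhamSh.HdR D (n : ℤ) ≃+ ↑(DeRham.H hd n)) := by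
  letI : HasDerivedCategory.{u} (CohTop.Ab (Spec (CommRingCat.of A)).toTopCat) :=
    ‹HasDerivedCategory.{u} (Sheaf (Opens.grothendieckTopology ↥(Spec (CommRingCat.of A))) AddCommGrpCat.{u})›
  obtain ⟨e₁⟩ := nonempty_glob_homology_addEquiv (X := (Spec (CommRingCat.of A)).toTopCat) D.K
    (fun p r => subsingleton_HU_K R A D p r) n
  obtain ⟨e₂⟩ := nonempty_cx_iso R A D d hd
  let e₃ := ((DeRham.cx hd).sc n).mapHomologyIso (forget₂ (ModuleCat.{u} R) AddCommGrpCat.{u})
  let e₄ : (forget₂ (ModuleCat.{u} R) AddCommGrpCat.{u}).obj ((DeRham.cx hd).homology n) ≅ _ :=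
    e₃.symm ≪≫ (HomologicalComplex.homologyMapIso e₂ n)
  exact ⟨(e₄.addCommGroupIsoToAddEquiv.trans e₁).symm⟩

end GrothLib.DeRhamVan15
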