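import Groth.Prelude.Def_DeRham2
import Groth.Agent.Lib.DerCat.Stupid
import Groth.Agent.Lib.SiteDer.Transfer
import Groth.Agent.Lib.DetMod12.ExtCoh
import Groth.Agent.Lib.Adj27.SmoothExt
import Groth.Agent.Lib.CotTangent.Components
import Groth.Agent.Lib.Neutral.SmoothCover
import Groth.Agent.Lib.Cohom.Affine
import Mathlib

/-!
# Vanishing of de Rham cohomology in high degrees
-/

set_option backward.isDefEq.respectTransparency false
set_option maxHeartbeats 800000

universe w v u

open CategoryTheory CategoryTheory.Limits AlgebraicGeometry Opposite TopologicalSpace DerivedCategory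

namespace GrothLib.DeRhamVan15

section Abstract

variable {A : Type u} [Category.{v} A] [Abelian A] [HasDerivedCategory.{w} A]

/-- Maps from a single object into a bounded complex vanish when they vanish into each term. -/
theorem eq_zero_of_terms (Z : A) (a : ℤ) : ∀ (m : ℕ) (K : CochainComplex A ℤ) [K.IsStrictlyGE a]
    [K.IsStrictlyLE (a + m)]
    (_ : ∀ q, a ≤ q → q ≤ a + m → ∀ ψ : (singleFunctor A 0).obj Z ⟶ (singleFunctor A q).obj (K.X q), ψ = 0)
    (φ : (singleFunctor A 0).obj Z ⟶ DerivedCategory.Q.obj K), φ = 0 := by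
  intro m
  induction m with
  | zero =>
    intro K _ _ h φ
    haveI : K.IsStrictlyLE a := by simpa using ‹K.IsStrictlyLE (a + (0 : ℕ))›
    obtain ⟨M, ⟨e⟩⟩ := CochainComplex.exists_iso_single K a
    let e0 : K.X a ≅ M := (HomologicalComplex.eval _ _ a).mapIso e ≪≫ HomologicalComplex.singleObjXSelf (ComplexShape.up ℤ) _ M
    let e1 : DerivedCategory.Q.obj K ≅ (singleFunctor A a).obj (K.X a) :=
      DerivedCategory.Q.mapIso e ≪≫ ((singleFunctorIsoCompQ A a).app M).symm ≪≫ (singleFunctor A a).mapIso e0.symm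
    rw [← cancel_mono e1.hom, zero_comp]
    exact h a le_rfl (by simp) _
  | succ m ih =>
    intro K _ _ h φ
    let n : ℤ := a + (m + 1 : ℕ)
    have hS := DerCat.stupidSeq_shortExact K n
    have hT := DerivedCategory.triangleOfSES_distinguished hS
    have h2 : φ ≫ (triangleOfSES hS).mor₂ = 0 := by
      haveI : (DerCat.sLE K (n - 1)).IsStrictlyGE a := by
        rw [CochainComplex.isStrictlyGE_iff]
        intro i hi
        by_cases hin : i ≤ n - 1
        · exact (K.isZero_of_isStrictlyGE a i hi).of_iso (DerCat.sLEXIso K hin)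
        · exact DerCat.isZero_sLE K (by omega)
      haveI : (DerCat.sLE K (n - 1)).IsStrictlyLE (a + m) := by
        rw [CochainComplex.isStrictlyLE_iff]
        intro i hi
        exact DerCat.isZero_sLE K (by simp only [n] at hi ⊢; push_cast; omega)
      refine ih (DerCat.sLE K (n - 1)) (fun q hq hq' ψ => ?_) _
      have hqn : q ≤ n - 1 := by simp only [n]; push_cast; omega
      rw [← cancel_mono ((singleFunctor A q).map (DerCat.sLEXIso K hqn).hom), zero_comp]
      exact h q hq (by push_cast; omega) _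
    obtain ⟨φ₁, hφ₁⟩ := Pretriangulated.Triangle.coyoneda_exact₂ _ hT φ h2
    have h1 : φ₁ = 0 := by
      haveI : (DerCat.sGE K n).IsStrictlyGE n := by
        rw [CochainComplex.isStrictlyGE_iff]
        exact fun i hi => DerCat.isZero_sGE K hi
      haveI : (DerCat.sGE K n).IsStrictlyLE n := by
        rw [CochainComplex.isStrictlyLE_iff]
        exact fun i hi => (K.isZero_of_isStrictlyLE (a + (m + 1 : ℕ)) i hi).of_iso (DerCat.sGEXIso K hi.le)
      obtain ⟨M, ⟨e⟩⟩ := CochainComplex.exists_iso_single (DerCat.sGE K n) n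
      let e0 : K.X n ≅ M := (DerCat.sGEXIso K le_rfl).symm ≪≫ (HomologicalComplex.eval _ _ n).mapIso e ≪≫
        HomologicalComplex.singleObjXSelf (ComplexShape.up ℤ) _ M
      let e1 : DerivedCategory.Q.obj (DerCat.sGE K n) ≅ (singleFunctor A n).obj (K.X n) :=
        DerivedCategory.Q.mapIso e ≪≫ ((singleFunctorIsoCompQ A n).app M).symm ≪≫ (singleFunctor A n).mapIso e0.symm
      rw [← cancel_mono e1.hom]
      exact (h n (by simp only [n]; omega) le_rfl _).trans zero_comp.symm
    rw [hφ₁, h1, zero_comp]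

/-- The same for a shifted target. -/
theorem eq_zero_shift_of_terms (Z : A) (K : CochainComplex A ℤ) (n : ℕ) [K.IsStrictlyGE 0] [K.IsStrictlyLE n]
    (i : ℤ)
    (h : ∀ p : ℤ, 0 ≤ p → p ≤ n → ∀ ψ : (singleFunctor A 0).obj Z ⟶ (singleFunctor A (p - i)).obj (K.X p), ψ = 0)
    (φ : (singleFunctor A 0).obj Z ⟶ (shiftFunctor (DerivedCategory A) i).obj (DerivedCategory.Q.obj K)) : φ = 0 := by
  haveI : (K⟦i⟧).IsStrictlyGE (-i) := K.isStrictlyGE_shift 0 i (-i) (by omega)
  haveI : (K⟦i⟧).IsStrictlyLE (-i + n) := K.isStrictlyLE_shift (n : ℤ) i (-i + n) (by omega)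
  let e := ((DerivedCategory.Q (C := A)).commShiftIso i).app K
  rw [← cancel_mono e.inv, zero_comp]
  refine eq_zero_of_terms Z (-i) n (K⟦i⟧) (fun q hq hq' ψ => ?_) _
  have h' : ∀ (p : ℤ), p = q + i → ∀ ψ : (singleFunctor A 0).obj Z ⟶ (singleFunctor A q).obj (K.X p), ψ = 0 := by
    intro p hp
    obtain rfl : q = p - i := by omega
    exact h p (by omega) (by omega)
  exact h' (q + i) rfl ψ

end Abstract

variable {X S : Scheme.{u}} {f : X ⟶ S} [QuasiSeparated f]

/-- The terms of a de Rham complex beyond the relative dimension vanish. -/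
theorem isZero_K (D : DeRhamSh.OmegaCx f) [Smooth f] (n : ℕ)
    (hn : ∀ (T : X.Opens) (U : S.Opens) (e : T ≤ f ⁻¹ᵁ U) (d : ℕ), IsAffineOpen T → IsAffineOpen U → (T : Set X).Nonempty →
      RingHom.IsStandardSmoothOfRelativeDimension d (f.appLE U T e).hom → d ≤ n)
    (p : ℕ) (hp : n < p) : IsZero (D.K.X p) := by
  refine IsZero.of_iso ?_ (D.iso p)
  have hsec : ∀ (U : X.Opens) (s : Γ(D.term p, U)), s = 0 := by
    intro U s
    refine (TopCat.Sheaf.eq_of_locally_eq' (Coh.toAb (D.term p))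
      (fun W : {W : X.affineOpens // W.1 ≤ U ∧ Subsingleton Γ(D.term p, W.1)} => W.1.1) U
      (fun W => homOfLE W.2.1) ?_ s 0 fun W => @Subsingleton.elim _ W.2.2 _ _)
    intro x hx
    obtain ⟨V, hV, T, hT, hxT, e, hstd⟩ := Smooth.exists_isStandardSmooth f x
    letI := (f.appLE V T e).hom.toAlgebra
    haveI : Algebra.IsStandardSmooth Γ(S, V) Γ(X, T) := hstd
    obtain ⟨gI, σ, hfσ, hfI, ⟨P⟩⟩ := ‹Algebra.IsStandardSmooth Γ(S, V) Γ(X, T)›
    haveI hd : Algebra.IsStandardSmoothOfRelativeDimension P.dimension Γ(S, V) Γ(X, T) :=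
      ⟨⟨gI, σ, hfσ, hfI, P, rfl⟩⟩
    have hdn : P.dimension ≤ n := hn T V e P.dimension hT hV ⟨x, hxT⟩ hd
    obtain ⟨s', hs'⟩ := Adj27.exists_bijective_coords P.dimension Γ(S, V) Γ(X, T)
    have hfr := Adj27.isFrame_dd f hT hV e s' hs'
    obtain ⟨_, ⟨W, hW, rfl⟩, hxW, hWle⟩ :=
      X.isBasis_affineOpens.exists_subset_of_mem_open (show x ∈ ((T ⊓ U : X.Opens) : Set X) from ⟨hxT, hx⟩) (T ⊓ U).2
    haveI : IsEmpty (Set.powersetCard (Fin P.dimension) p) := ⟨fun t => by
      have h1 := Finset.card_le_univ t.1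
      rw [t.2] at h1
      simp at h1
      omega⟩
    haveI : Subsingleton ↥(⋀[Γ(X, W)]^p Γ(Omega.sheaf f, W)) :=
      ((hfr.basis W (hWle.trans inf_le_left)).exteriorPower (n := p)).repr.toEquiv.subsingleton
    exact Opens.mem_iSup.2 ⟨⟨⟨W, hW⟩, hWle.trans inf_le_right, (D.loc p ⟨W, hW⟩).toEquiv.subsingleton⟩, hxW⟩
  rw [IsZero.iff_id_eq_zero]
  refine CategoryTheory.Sheaf.hom_ext ?_
  ext U s
  exact hsec U.unop s

/-- Vanishing of de Rham hypercohomology above the dimension plus the cohomological dimension. -/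
theorem subsingleton_HdR (D : DeRhamSh.OmegaCx f) [Smooth f] (n r : ℕ)
    (hn : ∀ (T : X.Opens) (U : S.Opens) (e : T ≤ f ⁻¹ᵁ U) (d : ℕ), IsAffineOpen T → IsAffineOpen U → (T : Set X).Nonempty →
      RingHom.IsStandardSmoothOfRelativeDimension d (f.appLE U T e).hom → d ≤ n)
    (hcd : ∀ (F : X.Modules), Coh.IsQCoh F → ∀ q : ℕ, r ≤ q → Subsingleton (Coh.HH X F q))
    [HasDerivedCategory.{u} (Sheaf (Opens.grothendieckTopology ↥X) AddCommGrpCat.{u})]
    (i : ℤ) (hi : (n : ℤ) + r ≤ i) : Subsingleton (DeRhamSh.HdR D i) := by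
  haveI : D.KZ.IsStrictlyGE 0 := by
    rw [CochainComplex.isStrictlyGE_iff]
    intro q hq
    exact D.K.isZero_extend_X _ _ fun j hj => by
      simp only [ComplexShape.embeddingUpNat_f] at hj
      omega
  haveI : D.KZ.IsStrictlyLE (n : ℤ) := by
    rw [CochainComplex.isStrictlyLE_iff]
    intro q hq
    exact (isZero_K D n hn q.toNat (by omega)).of_iso
      (D.K.extendXIso ComplexShape.embeddingUpNat (by simp; omega))
  refine subsingleton_of_forall_eq 0 fun φ => eq_zero_shift_of_terms _ D.KZ n i (fun p hp hpn ψ => ?_) φ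
  obtain ⟨p, rfl⟩ := Int.eq_ofNat_of_zero_le hp
  let e : D.KZ.X (p : ℤ) ≅ Coh.toAb (D.term p) :=
    D.K.extendXIso ComplexShape.embeddingUpNat (by simp) ≪≫ D.iso p
  rw [← cancel_mono ((singleFunctor _ _).map e.hom), zero_comp]
  haveI : (Omega.sheaf f).IsQuasicoherent := OmegaSheaf.isQuasicoherent_sheaf f
  haveI := hcd (D.term p) (DetMod12.isQuasicoherent_of_isExtPow (D.isExtPow p)) (i - p).toNat (by omega)
  exact SiteDer.eq_zero_of_subsingleton_ext.{u} _ _ 0 _ (i - p).toNat (by omega)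
    ((Cohom.HEquivTop (Coh.toAb (D.term p)) (i - p).toNat).symm.toEquiv.subsingleton) _

/-- Over a field, relative dimensions are bounded by the dimension. -/
theorem relDim_le {k : Type u} [Field k] {X : Scheme.{u}} (f : X ⟶ Spec (CommRingCat.of k)) (n : ℕ)
    (hn : topologicalKrullDim ↥X ≤ n) (T : X.Opens) (U : (Spec (CommRingCat.of k)).Opens) (e : T ≤ f ⁻¹ᵁ U)
    (d : ℕ) (hT : IsAffineOpen T) (_ : IsAffineOpen U) (hne : (T : Set X).Nonempty)
    (hstd : RingHom.IsStandardSmoothOfRelativeDimension d (f.appLE U T e).hom) : d ≤ n := by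
  obtain ⟨x, hx⟩ := hne
  have hU' : U = ⊤ := by
    ext a
    simp only [SetLike.mem_coe, TopologicalSpace.Opens.coe_top, Set.mem_univ, iff_true]
    rw [Subsingleton.elim a (f x)]
    exact e hx
  subst hU'
  haveI : Nonempty T := ⟨⟨x, hx⟩⟩
  let ψ : CommRingCat.of k ⟶ Γ(X, T) := (Scheme.ΓSpecIso (CommRingCat.of k)).inv ≫ f.appLE ⊤ T e
  have hψ : ψ.hom.IsStandardSmoothOfRelativeDimension d :=
    RingHom.isStandardSmoothOfRelativeDimension_respectsIso.2 (f.appLE ⊤ T e).hom
      (Scheme.ΓSpecIso (CommRingCat.of k)).symm.commRingCatIsoToRingEquiv hstd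
  algebraize [ψ.hom]
  have h1 := (T.ι.isOpenEmbedding.isInducing.topologicalKrullDim_le).trans hn
  rw [GrothLib.Dim.topologicalKrullDim_affineOpen hT] at h1
  have h2 := GrothLib.Neutral.le_ringKrullDim_of_isStandardSmooth d (k := k) (A := Γ(X, T))
  exact_mod_cast h2.trans h1

end GrothLib.DeRhamVan15
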