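import Groth.Agent.Lib.DerCat.Stupid
import Groth.Agent.Lib.ProjCoh.Finite
import Groth.Agent.Lib.DetMod12.ExtCoh
import Groth.Agent.Lib.OmegaSheaf.Basic
import Groth.Agent.Lib.Cohom.Basic
import Groth.Prelude.Def_KLinDR
import Mathlib

/-!
# Finiteness of hypercohomology with a ring action, by stupid truncation
-/

set_option backward.isDefEq.respectTransparency false
set_option maxHeartbeats 1600000

universe w v u u'

open CategoryTheory CategoryTheory.Limits DerivedCategory

namespace GrothLib.DeRhamVan15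

section Hom

variable {C : Type u} [Category.{v} C] [Preadditive C] {R : Type u'} [Ring R]

/-- Morphisms into an object with an action of a ring, as a module. -/
def HM (Z : C) {E : C} (_ρ : R →+* End E) : Type v := Z ⟶ E

noncomputable instance (Z : C) {E : C} (ρ : R →+* End E) : AddCommGroup (HM Z ρ) :=
  inferInstanceAs (AddCommGroup (Z ⟶ E))

/-- The identity. -/
noncomputable def HM.hom {Z : C} {E : C} {ρ : R →+* End E} : HM Z ρ ≃+ (Z ⟶ E) := AddEquiv.refl _

noncomputable instance (Z : C) {E : C} (ρ : R →+* End E) : Module R (HM Z ρ) where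
  smul a x := (HM.hom.symm (HM.hom x ≫ ρ a))
  one_smul x := by
    show HM.hom x ≫ ρ 1 = HM.hom x
    rw [map_one]; exact Category.comp_id _
  mul_smul a b x := by
    show HM.hom x ≫ ρ (a * b) = (HM.hom x ≫ ρ b) ≫ ρ a
    rw [map_mul, End.mul_def, Category.assoc]
  smul_zero a := by
    show (0 : Z ⟶ E) ≫ ρ a = 0
    exact zero_comp
  smul_add a x y := by
    show (HM.hom x + HM.hom y) ≫ ρ a = HM.hom x ≫ ρ a + HM.hom y ≫ ρ a
    exact Preadditive.add_comp _ _ _ _ _ _
  add_smul a b x := by
    show HM.hom x ≫ ρ (a + b) = HM.hom x ≫ ρ a + HM.hom x ≫ ρ b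
    rw [map_add]; exact Preadditive.comp_add _ _ _ _ _ _
  zero_smul x := by
    show HM.hom x ≫ ρ 0 = 0
    rw [map_zero]; exact comp_zero

variable {Z : C} {E E' E'' : C} {ρ : R →+* End E} {ρ' : R →+* End E'} {ρ'' : R →+* End E''}

/-- An equivariant morphism induces a linear map. -/
noncomputable def HM.map (f : E ⟶ E') (hf : ∀ a, (ρ a : E ⟶ E) ≫ f = f ≫ (ρ' a : E' ⟶ E')) : HM Z ρ →ₗ[R] HM Z ρ' where
  toFun x := HM.hom.symm (HM.hom x ≫ f)
  map_add' x y := Preadditive.add_comp _ _ _ _ _ _
  map_smul' a x := by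
    show (HM.hom x ≫ ρ a) ≫ f = (HM.hom x ≫ f) ≫ ρ' a
    rw [Category.assoc, hf, Category.assoc]

theorem HM.finite_of_injective [IsNoetherianRing R] (f : E ⟶ E') (hf : ∀ a, (ρ a : E ⟶ E) ≫ f = f ≫ (ρ' a : E' ⟶ E'))
    (hinj : ∀ φ : Z ⟶ E, φ ≫ f = 0 → φ = 0) [Module.Finite R (HM Z ρ')] : Module.Finite R (HM Z ρ) :=
  Module.Finite.of_injective (HM.map f hf) ((injective_iff_map_eq_zero _).2 fun x hx => hinj x hx)

theorem HM.finite_of_exact [IsNoetherianRing R] (f : E ⟶ E') (hf : ∀ a, (ρ a : E ⟶ E) ≫ f = f ≫ (ρ' a : E' ⟶ E'))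
    (g : E' ⟶ E'') (hg : ∀ a, (ρ' a : E' ⟶ E') ≫ g = g ≫ (ρ'' a : E'' ⟶ E''))
    (hex : ∀ φ : Z ⟶ E', φ ≫ g = 0 → ∃ ψ : Z ⟶ E, φ = ψ ≫ f)
    [Module.Finite R (HM Z ρ)] [Module.Finite R (HM Z ρ'')] : Module.Finite R (HM Z ρ') := by
  haveI : IsNoetherian R (HM Z ρ) := isNoetherian_of_isNoetherianRing_of_finite R _
  haveI : IsNoetherian R (HM Z ρ'') := isNoetherian_of_isNoetherianRing_of_finite R _
  refine ⟨Submodule.fg_of_fg_map_of_fg_inf_ker (HM.map g hg) (IsNoetherian.noetherian _) ?_⟩
  rw [top_inf_eq]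
  have h : LinearMap.ker (HM.map g hg) = Submodule.map (HM.map f hf)
      (Submodule.comap (HM.map f hf) (LinearMap.ker (HM.map g hg))) :=
    (Submodule.map_comap_eq_self fun x hx => by
      obtain ⟨ψ, hψ⟩ := hex (HM.hom x) hx
      exact ⟨HM.hom.symm ψ, hψ.symm⟩).symm
  rw [h]
  exact (IsNoetherian.noetherian _).map _

end Hom

section Complex

variable {A : Type u} [Category.{v} A] [Abelian A] {R : Type u'} [Ring R]

/-- The image of an action under an additive functor. -/
noncomputable def endMap {D : Type*} [Category D] [Preadditive D] (F : A ⥤ D) [F.Additive] (X : A) :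
    End X →+* End (F.obj X) where
  toFun f := F.map f
  map_one' := F.map_id X
  map_mul' f g := F.map_comp g f
  map_zero' := F.map_zero _ _
  map_add' _ _ := F.map_add

instance stupidTruncFunctor_additive {ι : Type*} {c : ComplexShape ι} (e : c.Embedding (ComplexShape.up ℤ)) [e.IsRelIff] :
    (e.stupidTruncFunctor A).Additive where
  map_add {K L φ φ'} := by
    show HomologicalComplex.extendMap (HomologicalComplex.restrictionMap (φ + φ') e) e = _
    rw [show HomologicalComplex.restrictionMap (φ + φ') e =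
      HomologicalComplex.restrictionMap φ e + HomologicalComplex.restrictionMap φ' e from by
        ext i; simp [HomologicalComplex.restrictionMap],
      HomologicalComplex.extendMap_add]
    rfl

variable [HasDerivedCategory.{w} A]

/-- The induced action on the shifted image in the derived category. -/
noncomputable abbrev actD (K : CochainComplex A ℤ) (ρ : R →+* End K) (n : ℤ) :
    R →+* End ((shiftFunctor (DerivedCategory A) n).obj (DerivedCategory.Q.obj K)) :=
  (KLinDR.endShift K n).comp ρ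

/-- The action on a single term. -/
noncomputable def actX (K : CochainComplex A ℤ) (ρ : R →+* End K) (q : ℤ) : R →+* End (K.X q) :=
  (endMap (HomologicalComplex.eval A (ComplexShape.up ℤ) q) K).comp ρ

variable [IsNoetherianRing R] (T : A)

theorem finite_single (q : ℤ) (n : ℤ) (M : A) (σ : R →+* End M)
    (h : ∀ m : ℤ, Module.Finite R (HM ((singleFunctor A 0).obj T)
      ((endMap (singleFunctor A m) M).comp σ)))
    (K : CochainComplex A ℤ) (ρ : R →+* End K) (e : K ≅ (HomologicalComplex.single A (ComplexShape.up ℤ) q).obj M)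
    (he : ∀ a, (ρ a : K ⟶ K) ≫ e.hom = e.hom ≫ (HomologicalComplex.single A (ComplexShape.up ℤ) q).map (σ a)) :
    Module.Finite R (HM ((singleFunctor A 0).obj T) (actD K ρ n)) := by
  let u : (shiftFunctor (DerivedCategory A) n).obj (DerivedCategory.Q.obj K) ≅ (singleFunctor A (q - n)).obj M :=
    (shiftFunctor (DerivedCategory A) n).mapIso (DerivedCategory.Q.mapIso e ≪≫ ((singleFunctorIsoCompQ A q).app M).symm) ≪≫
      ((singleFunctors A).shiftIso n (q - n) q (by omega)).app M
  haveI := h (q - n)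
  refine HM.finite_of_injective (ρ' := (endMap (singleFunctor A (q - n)) M).comp σ) u.hom (fun a => ?_)
    fun φ hφ => by rwa [← cancel_mono u.hom, zero_comp]
  show (shiftFunctor (DerivedCategory A) n).map (DerivedCategory.Q.map (ρ a)) ≫ u.hom =
    u.hom ≫ (singleFunctor A (q - n)).map (σ a)
  simp only [u, Iso.trans_hom, Functor.mapIso_hom, Iso.symm_hom, Iso.app_hom, Iso.app_inv, Category.assoc,
    Functor.map_comp]
  rw [← Functor.map_comp_assoc, ← Functor.map_comp, he, Functor.map_comp, Functor.map_comp_assoc]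
  congr 1
  rw [← Functor.map_comp_assoc]
  erw [(singleFunctorIsoCompQ A q).inv.naturality (σ a)]
  rw [Functor.map_comp_assoc]
  congr 1
  exact (((singleFunctors A).shiftIso n (q - n) q (by omega)).hom.naturality (σ a))

theorem finite_of_terms (a : ℤ) : ∀ (m : ℕ) (K : CochainComplex A ℤ) [K.IsStrictlyGE a] [K.IsStrictlyLE (a + m)]
    (ρ : R →+* End K)
    (_ : ∀ q, a ≤ q → q ≤ a + m → ∀ j : ℤ, Module.Finite R (HM ((singleFunctor A 0).obj T)
      ((endMap (singleFunctor A j) (K.X q)).comp (actX K ρ q))))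
    (n : ℤ), Module.Finite R (HM ((singleFunctor A 0).obj T) (actD K ρ n)) := by
  have one : ∀ (q : ℤ) (K : CochainComplex A ℤ) [K.IsStrictlyGE q] [K.IsStrictlyLE q] (ρ : R →+* End K) (n : ℤ),
      (∀ j : ℤ, Module.Finite R (HM ((singleFunctor A 0).obj T)
        ((endMap (singleFunctor A j) (K.X q)).comp (actX K ρ q)))) →
      Module.Finite R (HM ((singleFunctor A 0).obj T) (actD K ρ n)) := by
    intro q K _ _ ρ n h
    obtain ⟨M, ⟨e⟩⟩ := CochainComplex.exists_iso_single K q
    let e₀ : K.X q ≅ M :=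
      (HomologicalComplex.eval _ _ q).mapIso e ≪≫ HomologicalComplex.singleObjXSelf (ComplexShape.up ℤ) q M
    refine finite_single T q n (K.X q) (actX K ρ q) h K ρ
      (e ≪≫ (HomologicalComplex.single A (ComplexShape.up ℤ) q).mapIso e₀.symm) fun a => ?_
    apply HomologicalComplex.to_single_hom_ext
    simp only [Iso.trans_hom, Functor.mapIso_hom, Iso.symm_hom, HomologicalComplex.comp_f,
      HomologicalComplex.single_map_f_self, Category.assoc, Iso.inv_hom_id, Category.comp_id]
    show (ρ a : K ⟶ K).f q ≫ _ = _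
    simp only [e₀, Iso.trans_inv, Functor.mapIso_inv, HomologicalComplex.eval_map, Category.assoc,
      Iso.hom_inv_id_assoc, Iso.inv_hom_id_assoc, ← HomologicalComplex.comp_f_assoc, Iso.hom_inv_id,
      HomologicalComplex.id_f, Category.comp_id, Category.id_comp]
    rfl
  intro m
  induction m with
  | zero =>
    intro K _ _ ρ h n
    haveI : K.IsStrictlyLE a := by simpa using ‹K.IsStrictlyLE (a + (0 : ℕ))›
    exact one a K ρ n (h a le_rfl (by simp))
  | succ m ih =>
    intro K _ _ ρ h n
    let N : ℤ := a + (m + 1 : ℕ)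
    let ρG : R →+* End (DerCat.sGE K N) :=
      (endMap ((ComplexShape.embeddingUpIntGE N).stupidTruncFunctor A) K).comp ρ
    let ρL : R →+* End (DerCat.sLE K (N - 1)) :=
      (endMap ((ComplexShape.embeddingUpIntLE (N - 1)).stupidTruncFunctor A) K).comp ρ
    have hG : ∀ (r : R) (i : ℤ) (hi : N ≤ i), (ρG r : DerCat.sGE K N ⟶ _).f i ≫ (DerCat.sGEXIso K hi).hom =
        (DerCat.sGEXIso K hi).hom ≫ (ρ r : K ⟶ K).f i := fun r i hi =>
      HomologicalComplex.stupidTruncMap_stupidTruncXIso_hom (ρ r) _ _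
    have hL : ∀ (r : R) (i : ℤ) (hi : i ≤ N - 1), (ρL r : DerCat.sLE K (N - 1) ⟶ _).f i ≫ (DerCat.sLEXIso K hi).hom =
        (DerCat.sLEXIso K hi).hom ≫ (ρ r : K ⟶ K).f i := fun r i hi =>
      HomologicalComplex.stupidTruncMap_stupidTruncXIso_hom (ρ r) _ _
    have cι : ∀ r, (ρG r : DerCat.sGE K N ⟶ _) ≫ DerCat.sGEι K N = DerCat.sGEι K N ≫ (ρ r : K ⟶ K) := by
      intro r
      ext i
      by_cases hi : N ≤ i
      · simp only [HomologicalComplex.comp_f, DerCat.sGEι, dif_pos hi]
        exact hG r i hi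
      · exact (DerCat.isZero_sGE K (by omega)).eq_of_src _ _
    have cπ : ∀ r, (ρ r : K ⟶ K) ≫ DerCat.sLEπ K (N - 1) = DerCat.sLEπ K (N - 1) ≫ (ρL r : DerCat.sLE K (N - 1) ⟶ _) := by
      intro r
      ext i
      by_cases hi : i ≤ N - 1
      · simp only [HomologicalComplex.comp_f, DerCat.sLEπ, dif_pos hi]
        rw [Iso.comp_inv_eq, Category.assoc, hL r i hi, Iso.inv_hom_id_assoc]
      · exact (DerCat.isZero_sLE K (by omega)).eq_of_tgt _ _
    haveI : (DerCat.sGE K N).IsStrictlyGE N := by
      rw [CochainComplex.isStrictlyGE_iff]; exact fun i hi => DerCat.isZero_sGE K hi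
    haveI : (DerCat.sGE K N).IsStrictlyLE N := by
      rw [CochainComplex.isStrictlyLE_iff]
      exact fun i hi => (K.isZero_of_isStrictlyLE (a + (m + 1 : ℕ)) i hi).of_iso (DerCat.sGEXIso K hi.le)
    haveI : (DerCat.sLE K (N - 1)).IsStrictlyGE a := by
      rw [CochainComplex.isStrictlyGE_iff]
      intro i hi
      by_cases hin : i ≤ N - 1
      · exact (K.isZero_of_isStrictlyGE a i hi).of_iso (DerCat.sLEXIso K hin)
      · exact DerCat.isZero_sLE K (by omega)
    haveI : (DerCat.sLE K (N - 1)).IsStrictlyLE (a + m) := by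
      rw [CochainComplex.isStrictlyLE_iff]
      exact fun i hi => DerCat.isZero_sLE K (by simp only [N] at hi ⊢; push_cast; omega)
    haveI h1 : Module.Finite R (HM ((singleFunctor A 0).obj T) (actD (DerCat.sGE K N) ρG n)) := by
      refine one N (DerCat.sGE K N) ρG n fun j => ?_
      haveI := h N (by simp only [N]; omega) le_rfl j
      refine HM.finite_of_injective (ρ' := (endMap (singleFunctor A j) (K.X N)).comp (actX K ρ N))
        ((singleFunctor A j).map (DerCat.sGEXIso K le_rfl).hom) (fun r => ?_)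
        fun φ hφ => by rwa [← cancel_mono ((singleFunctor A j).map (DerCat.sGEXIso K (le_refl N)).hom), zero_comp]
      show (singleFunctor A j).map ((ρG r : DerCat.sGE K N ⟶ _).f N) ≫ _ = _ ≫ (singleFunctor A j).map ((ρ r : K ⟶ K).f N)
      rw [← Functor.map_comp, hG r N le_rfl, Functor.map_comp]
    haveI h2 : Module.Finite R (HM ((singleFunctor A 0).obj T) (actD (DerCat.sLE K (N - 1)) ρL n)) := by
      refine ih (DerCat.sLE K (N - 1)) ρL (fun q hq hq' j => ?_) n
      have hqN : q ≤ N - 1 := by simp only [N]; push_cast; omega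
      haveI := h q hq (by push_cast; omega) j
      refine HM.finite_of_injective (ρ' := (endMap (singleFunctor A j) (K.X q)).comp (actX K ρ q))
        ((singleFunctor A j).map (DerCat.sLEXIso K hqN).hom) (fun r => ?_)
        fun φ hφ => by rwa [← cancel_mono ((singleFunctor A j).map (DerCat.sLEXIso K hqN).hom), zero_comp]
      show (singleFunctor A j).map ((ρL r : DerCat.sLE K (N - 1) ⟶ _).f q) ≫ _ = _ ≫ (singleFunctor A j).map ((ρ r : K ⟶ K).f q)
      rw [← Functor.map_comp, hL r q hqN, Functor.map_comp]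
    refine HM.finite_of_exact (ρ := actD (DerCat.sGE K N) ρG n) (ρ'' := actD (DerCat.sLE K (N - 1)) ρL n)
      ((shiftFunctor (DerivedCategory A) n).map (DerivedCategory.Q.map (DerCat.sGEι K N))) (fun r => ?_)
      ((shiftFunctor (DerivedCategory A) n).map (DerivedCategory.Q.map (DerCat.sLEπ K (N - 1)))) (fun r => ?_) ?_
    · show (shiftFunctor (DerivedCategory A) n).map (DerivedCategory.Q.map (ρG r)) ≫ _ =
        _ ≫ (shiftFunctor (DerivedCategory A) n).map (DerivedCategory.Q.map (ρ r))
      rw [← Functor.map_comp, ← Functor.map_comp, cι, Functor.map_comp, Functor.map_comp]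
    · show (shiftFunctor (DerivedCategory A) n).map (DerivedCategory.Q.map (ρ r)) ≫ _ =
        _ ≫ (shiftFunctor (DerivedCategory A) n).map (DerivedCategory.Q.map (ρL r))
      rw [← Functor.map_comp, ← Functor.map_comp, cπ, Functor.map_comp, Functor.map_comp]
    · intro φ hφ
      have hT := Pretriangulated.Triangle.shift_distinguished _
        (DerivedCategory.triangleOfSES_distinguished (DerCat.stupidSeq_shortExact K N)) n
      obtain ⟨ψ, hψ⟩ := Pretriangulated.Triangle.coyoneda_exact₂ _ hT φ (by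
        show φ ≫ (n.negOnePow • (shiftFunctor (DerivedCategory A) n).map (DerivedCategory.Q.map (DerCat.sLEπ K (N - 1)))) = 0
        rw [Linear.comp_units_smul]
        exact (congrArg (n.negOnePow • ·) hφ).trans (smul_zero _))
      refine ⟨n.negOnePow • ψ, hψ.trans ?_⟩
      show ψ ≫ (n.negOnePow • (shiftFunctor (DerivedCategory A) n).map (DerivedCategory.Q.map (DerCat.sGEι K N))) = _
      rw [Linear.comp_units_smul, Linear.units_smul_comp]

/-- Dévissage for complexes bounded below: only finitely many terms matter in each degree. -/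
theorem finite_of_terms_GE (K : CochainComplex A ℤ) [K.IsStrictlyGE 0] (ρ : R →+* End K)
    (h : ∀ q : ℤ, 0 ≤ q → ∀ j : ℤ, Module.Finite R (HM ((singleFunctor A 0).obj T)
      ((endMap (singleFunctor A j) (K.X q)).comp (actX K ρ q))))
    (n : ℤ) : Module.Finite R (HM ((singleFunctor A 0).obj T) (actD K ρ n)) := by
  let m : ℕ := (n + 1).toNat
  let N : ℤ := (m : ℤ) + 1
  let ρL : R →+* End (DerCat.sLE K (N - 1)) :=
    (endMap ((ComplexShape.embeddingUpIntLE (N - 1)).stupidTruncFunctor A) K).comp ρ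
  have hL : ∀ (r : R) (i : ℤ) (hi : i ≤ N - 1), (ρL r : DerCat.sLE K (N - 1) ⟶ _).f i ≫ (DerCat.sLEXIso K hi).hom =
      (DerCat.sLEXIso K hi).hom ≫ (ρ r : K ⟶ K).f i := fun r i hi =>
    HomologicalComplex.stupidTruncMap_stupidTruncXIso_hom (ρ r) _ _
  have cπ : ∀ r, (ρ r : K ⟶ K) ≫ DerCat.sLEπ K (N - 1) = DerCat.sLEπ K (N - 1) ≫ (ρL r : DerCat.sLE K (N - 1) ⟶ _) := by
    intro r
    ext i
    by_cases hi : i ≤ N - 1
    · simp only [HomologicalComplex.comp_f, DerCat.sLEπ, dif_pos hi]
      rw [Iso.comp_inv_eq, Category.assoc, hL r i hi, Iso.inv_hom_id_assoc]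
    · exact (DerCat.isZero_sLE K (by omega)).eq_of_tgt _ _
  haveI : (DerCat.sLE K (N - 1)).IsStrictlyGE 0 := by
    rw [CochainComplex.isStrictlyGE_iff]
    intro i hi
    by_cases hin : i ≤ N - 1
    · exact (K.isZero_of_isStrictlyGE 0 i hi).of_iso (DerCat.sLEXIso K hin)
    · exact DerCat.isZero_sLE K (by omega)
  haveI : (DerCat.sLE K (N - 1)).IsStrictlyLE (0 + (m : ℤ)) := by
    rw [CochainComplex.isStrictlyLE_iff]
    exact fun i hi => DerCat.isZero_sLE K (by simp only [N] at hi ⊢; omega)
  haveI : (DerCat.sGE K N).IsStrictlyGE N := by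
    rw [CochainComplex.isStrictlyGE_iff]; exact fun i hi => DerCat.isZero_sGE K hi
  haveI : Module.Finite R (HM ((singleFunctor A 0).obj T) (actD (DerCat.sLE K (N - 1)) ρL n)) := by
    refine finite_of_terms T 0 m (DerCat.sLE K (N - 1)) ρL (fun q hq hq' j => ?_) n
    have hqN : q ≤ N - 1 := by simp only [N]; omega
    haveI := h q hq j
    refine HM.finite_of_injective (ρ' := (endMap (singleFunctor A j) (K.X q)).comp (actX K ρ q))
      ((singleFunctor A j).map (DerCat.sLEXIso K hqN).hom) (fun r => ?_)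
      fun φ hφ => by rwa [← cancel_mono ((singleFunctor A j).map (DerCat.sLEXIso K hqN).hom), zero_comp]
    show (singleFunctor A j).map ((ρL r : DerCat.sLE K (N - 1) ⟶ _).f q) ≫ _ = _ ≫ (singleFunctor A j).map ((ρ r : K ⟶ K).f q)
    rw [← Functor.map_comp, hL r q hqN, Functor.map_comp]
  refine HM.finite_of_injective (ρ' := actD (DerCat.sLE K (N - 1)) ρL n)
    ((shiftFunctor (DerivedCategory A) n).map (DerivedCategory.Q.map (DerCat.sLEπ K (N - 1)))) (fun r => ?_) ?_
  · show (shiftFunctor (DerivedCategory A) n).map (DerivedCategory.Q.map (ρ r)) ≫ _ =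
      _ ≫ (shiftFunctor (DerivedCategory A) n).map (DerivedCategory.Q.map (ρL r))
    rw [← Functor.map_comp, ← Functor.map_comp, cπ, Functor.map_comp, Functor.map_comp]
  · intro φ hφ
    have hT := Pretriangulated.Triangle.shift_distinguished _
      (DerivedCategory.triangleOfSES_distinguished (DerCat.stupidSeq_shortExact K N)) n
    obtain ⟨ψ, hψ⟩ := Pretriangulated.Triangle.coyoneda_exact₂ _ hT φ (by
      show φ ≫ (n.negOnePow • (shiftFunctor (DerivedCategory A) n).map (DerivedCategory.Q.map (DerCat.sLEπ K (N - 1)))) = 0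
      rw [Linear.comp_units_smul]
      exact (congrArg (n.negOnePow • ·) hφ).trans (smul_zero _))
    haveI : ((DerCat.sGE K N)⟦n⟧).IsStrictlyGE (N - n) := (DerCat.sGE K N).isStrictlyGE_shift N n (N - n) (by omega)
    have hz : ψ = 0 := by
      let e := ((DerivedCategory.Q (C := A)).commShiftIso n).app (DerCat.sGE K N)
      have hI : (DerivedCategory.Q.obj ((DerCat.sGE K N)⟦n⟧)).IsGE (N - n) := inferInstance
      refine (cancel_mono e.inv).1 (Eq.trans ?_ zero_comp.symm)
      exact TStructure.t.zero_of_isLE_of_isGE _ 0 (N - n) (by simp only [N, m]; omega) inferInstance hI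
    rw [hψ, hz]
    exact zero_comp

end Complex

end GrothLib.DeRhamVan15
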