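import Groth.Agent.Lib.ExtDeRham.Poincare
import Groth.Agent.Lib.ExtDeRham.Basic
import Groth.Agent.Lib.DeRhamFam.Basic
import Groth.Prelude.Def_DeRham
import Groth.Prelude.Def_DeRham2

/-!
# The degreewise de Rham differential, and the cohomology of polynomial rings
-/

set_option backward.isDefEq.respectTransparency false
set_option maxHeartbeats 1000000

universe u

open CategoryTheory CategoryTheory.Limits AlgebraicGeometry DerivedCategory

namespace GrothLib.DeRhamVan15

section Ring

variable (R A : Type u) [CommRing R] [CommRing A] [Algebra R A]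

local notation "Λ" => ExteriorAlgebra A (KaehlerDifferential R A)

/-- The de Rham differential in degree `p`. -/
noncomputable def dP (p : ℕ) : ↥(⋀[A]^p (Ω[A⁄R])) →ₗ[R] ↥(⋀[A]^(p + 1) (Ω[A⁄R])) where
  toFun x := ⟨ExtDeRham.d R A x.1, ExtDeRham.d_mem R A x.2⟩
  map_add' x y := Subtype.ext (map_add (ExtDeRham.d R A) x.1 y.1)
  map_smul' r x := Subtype.ext ((ExtDeRham.d R A).map_smul r x.1)

theorem dP_coe (p : ℕ) (x : ↥(⋀[A]^p (Ω[A⁄R]))) : (dP R A p x : Λ) = ExtDeRham.d R A x.1 := rfl

theorem d_ιMulti (p : ℕ) (b : Fin p → A) :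
    ExtDeRham.d R A (ExteriorAlgebra.ιMulti A p (fun i => KaehlerDifferential.D R A (b i))) = 0 := by
  induction p with
  | zero =>
    rw [ExteriorAlgebra.ιMulti_zero_apply, ← map_one (algebraMap A Λ), ExtDeRham.d_algebraMap,
      Derivation.map_one_eq_zero, map_zero]
  | succ p ih =>
    rw [ExteriorAlgebra.ιMulti_succ_apply, ExtDeRham.d_mul, ExtDeRham.d_ι_D, zero_mul, add_zero]
    have h := ih (fun i => b i.succ)
    rw [show Matrix.vecTail (fun i => KaehlerDifferential.D R A (b i)) = fun i => KaehlerDifferential.D R A (b i.succ) from rfl,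
      h, mul_zero]

theorem isRule_dP : DeRham.IsRule (KaehlerDifferential.D R A) (dP R A) := by
  intro p b₀ b
  apply Subtype.ext
  rw [dP_coe, exteriorPower.ιMulti_apply_coe, ExteriorAlgebra.ιMulti_succ_apply]
  have e : ((DeRham.gen (KaehlerDifferential.D R A) p b₀ b : ↥(⋀[A]^p (Ω[A⁄R]))) : Λ) =
      algebraMap A Λ b₀ * ExteriorAlgebra.ιMulti A p (fun i => KaehlerDifferential.D R A (b i)) := by
    rw [← Algebra.smul_def]
    rfl
  rw [e, ExtDeRham.d_mul, d_ιMulti, mul_zero, zero_add, ExtDeRham.d_algebraMap]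
  rfl

theorem isDiff_dP : DeRham.IsDiff (KaehlerDifferential.D R A) (dP R A) :=
  ⟨isRule_dP R A, fun p => LinearMap.ext fun x => Subtype.ext (ExtDeRham.d_sq R A x.1)⟩

end Ring

variable (k : Type u) [Field k] [CharZero k] (n : ℕ)

local notation "P" => MvPolynomial (Fin n) k

theorem isZero_H_succ (i : ℕ) : IsZero (DeRham.H (isDiff_dP k P) (i + 1)) := by
  rw [DeRham.H, ← HomologicalComplex.exactAt_iff_isZero_homology,
    HomologicalComplex.exactAt_iff' _ i (i + 1) (i + 1 + 1) (by simp) (by simp), ShortComplex.moduleCat_exact_iff]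
  intro x hx
  simp only [HomologicalComplex.shortComplexFunctor'_obj_g, DeRham.cx, CochainComplex.of_d] at hx
  obtain ⟨θ, hθ, h⟩ := (ExtDeRham.Poincare.exact_of_derivation (ExtDeRham.d k P) (ExtDeRham.d_algebraMap k P)
    (fun p ω η hω => ExtDeRham.d_leibniz k P hω η) (ExtDeRham.d_sq k P)).2 i _ x.2 (congrArg Subtype.val hx)
  refine ⟨⟨θ, hθ⟩, ?_⟩
  simp only [HomologicalComplex.shortComplexFunctor'_obj_f, DeRham.cx, CochainComplex.of_d]
  exact Subtype.ext h

theorem nonempty_H_zero : Nonempty (↑(DeRham.H (isDiff_dP k P) 0) ≃+ k) := by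
  let K := DeRham.cx (isDiff_dP k P)
  let e0 : K.homology 0 ≅ K.cycles 0 := K.isoHomologyπ₀.symm
  let e1 := (K.sc 0).moduleCatCyclesIso
  let φ : k →ₗ[k] ↥(⋀[P]^0 (Ω[P⁄k])) :=
    { toFun := fun c => ⟨algebraMap P _ (MvPolynomial.C c), SetLike.algebraMap_mem_graded _ _⟩
      map_add' := fun a b => Subtype.ext (by simp)
      map_smul' := fun a b => Subtype.ext (by
        show algebraMap P _ (MvPolynomial.C (a * b)) = a • algebraMap P _ (MvPolynomial.C b)
        rw [← IsScalarTower.algebraMap_smul P a, Algebra.smul_def, MvPolynomial.algebraMap_eq, map_mul, map_mul]) }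
  have hker : LinearMap.range φ = LinearMap.ker (dP k P 0) := by
    ext x
    rw [LinearMap.mem_range, LinearMap.mem_ker]
    constructor
    · rintro ⟨c, rfl⟩
      apply Subtype.ext
      show ExtDeRham.d k P (algebraMap P _ (MvPolynomial.C c)) = 0
      rw [ExtDeRham.d_algebraMap, ← MvPolynomial.algebraMap_eq, Derivation.map_algebraMap, map_zero]
    · intro hx
      have hx' : x.1 ∈ (1 : Submodule P (ExteriorAlgebra P (Ω[P⁄k]))) := by
        have := x.2
        simpa [ExteriorAlgebra.exteriorPower, pow_zero] using this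
      obtain ⟨a, ha⟩ := Submodule.mem_one.1 hx'
      have hda : ExtDeRham.d k P (algebraMap P _ a) = 0 := by
        rw [ha]; exact congrArg Subtype.val hx
      obtain ⟨c, rfl⟩ := (ExtDeRham.Poincare.exact_of_derivation (ExtDeRham.d k P) (ExtDeRham.d_algebraMap k P)
        (fun p ω η hω => ExtDeRham.d_leibniz k P hω η) (ExtDeRham.d_sq k P)).1 a hda
      exact ⟨c, Subtype.ext ha⟩
  have hinj : Function.Injective φ := fun a b h =>
    MvPolynomial.C_injective _ _ ((ExteriorAlgebra.algebraMap_leftInverse _).injective (congrArg Subtype.val h))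
  have hg : LinearMap.ker (K.sc 0).g.hom = LinearMap.ker (dP k P 0) := by
    have : (K.sc 0).g = K.d 0 1 ≫ (K.XIsoOfEq (CochainComplex.next ℕ 0).symm).hom := by
      show K.d 0 ((ComplexShape.up ℕ).next 0) = _
      simp
    rw [this, ModuleCat.hom_comp, LinearMap.ker_comp_of_ker_eq_bot _
      (LinearMap.ker_eq_bot.2 (ModuleCat.mono_iff_injective _ |>.1 inferInstance))]
    simp only [K, DeRham.cx, CochainComplex.of_d]
    rfl
  exact ⟨((e0 ≪≫ e1).toLinearEquiv.toAddEquiv).trans
    (((LinearEquiv.ofEq _ _ (hg.trans hker.symm)).trans (LinearEquiv.ofInjective φ hinj).symm).toAddEquiv)⟩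

variable {X S : Scheme.{u}} {f : X ⟶ S} [QuasiSeparated f]

/-- Hypercohomology of a de Rham complex vanishes in negative degrees. -/
theorem subsingleton_HdR_neg (D : DeRhamSh.OmegaCx f)
    [HasDerivedCategory.{u} (Sheaf (Opens.grothendieckTopology ↥X) AddCommGrpCat.{u})]
    (i : ℤ) (hi : i < 0) : Subsingleton (DeRhamSh.HdR D i) := by
  haveI : D.KZ.IsStrictlyGE 0 := by
    rw [CochainComplex.isStrictlyGE_iff]
    intro q hq
    exact D.K.isZero_extend_X _ _ fun j hj => by
      simp only [ComplexShape.embeddingUpNat_f] at hj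
      omega
  haveI : (D.KZ⟦i⟧).IsStrictlyGE (-i) := D.KZ.isStrictlyGE_shift 0 i (-i) (by omega)
  refine subsingleton_of_forall_eq 0 fun φ => ?_
  rw [← cancel_mono (((DerivedCategory.Q (C := Sheaf (Opens.grothendieckTopology ↥X) AddCommGrpCat.{u})).commShiftIso i).app D.KZ).inv,
    zero_comp]
  have : (DerivedCategory.Q.obj (D.KZ⟦i⟧)).IsGE (-i) := inferInstance
  exact TStructure.t.zero_of_isLE_of_isGE _ 0 (-i) (by omega) inferInstance this

end GrothLib.DeRhamVan15
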