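import Groth.Agent.Lib.DeRhamFam.Basic
import Mathlib

/-!
# Exterior powers and semilinear bijections
-/

universe u

open exteriorPower

namespace GrothLib.DeRhamVan15

variable {A A' M M' : Type u} [CommRing A] [CommRing A'] [AddCommGroup M] [Module A M] [AddCommGroup M'] [Module A' M']

/-- A semilinear map induces semilinear maps of exterior powers. -/
theorem exists_extMap (σ : A →+* A') (T : M →ₛₗ[σ] M') (p : ℕ) :
    ∃ Φ : ↥(⋀[A]^p M) →+ ↥(⋀[A']^p M'),
      (∀ (a : A) (x : ↥(⋀[A]^p M)), Φ (a • x) = σ a • Φ x) ∧
        ∀ v : Fin p → M, Φ (ιMulti A p v) = ιMulti A' p (fun i => T (v i)) := by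
  letI : Module A ↥(⋀[A']^p M') := Module.compHom _ σ
  let α : M [⋀^Fin p]→ₗ[A] ↥(⋀[A']^p M') :=
    { toFun := fun v => ιMulti A' p (fun i => T (v i))
      map_update_add' := by
        intro _ v i x y
        have e : ∀ z, (fun j => T (Function.update v i z j)) = Function.update (fun j => T (v j)) i (T z) :=
          fun z => funext fun j => by
            by_cases hj : j = i
            · subst hj; simp
            · simp [hj]
        simp only [e, map_add]
        exact AlternatingMap.map_update_add _ _ _ _ _
      map_update_smul' := by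
        intro _ v i a x
        have e : ∀ z, (fun j => T (Function.update v i z j)) = Function.update (fun j => T (v j)) i (T z) :=
          fun z => funext fun j => by
            by_cases hj : j = i
            · subst hj; simp
            · simp [hj]
        simp only [e, LinearMap.map_smulₛₗ]
        exact AlternatingMap.map_update_smul _ _ _ _ _
      map_eq_zero_of_eq' := fun v i j hv hij =>
        AlternatingMap.map_eq_zero_of_eq _ _ (congrArg T hv) hij }
  refine ⟨(alternatingMapLinearEquiv α).toAddMonoidHom, fun a x => ?_, fun v => ?_⟩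
  · exact (alternatingMapLinearEquiv α).map_smul a x
  · exact alternatingMapLinearEquiv_apply_ιMulti α v

/-- A semilinear bijection induces bijections of exterior powers. -/
theorem exists_extEquiv (σ : A →+* A') (hσ : Function.Bijective σ) (T : M →ₛₗ[σ] M') (hT : Function.Bijective T) (p : ℕ) :
    ∃ Φ : ↥(⋀[A]^p M) ≃+ ↥(⋀[A']^p M'),
      (∀ (a : A) (x : ↥(⋀[A]^p M)), Φ (a • x) = σ a • Φ x) ∧
        ∀ v : Fin p → M, Φ (ιMulti A p v) = ιMulti A' p (fun i => T (v i)) := by
  let e := RingEquiv.ofBijective σ hσ
  let t := Equiv.ofBijective T hT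
  let T' : M' →ₛₗ[e.symm.toRingHom] M :=
    { toFun := t.symm
      map_add' := fun x y => hT.1 (by
        rw [map_add T]
        show t _ = t _ + t _
        simp only [Equiv.apply_symm_apply])
      map_smul' := fun a x => hT.1 (by
        rw [LinearMap.map_smulₛₗ T]
        show t _ = e (e.symm a) • t _
        simp only [Equiv.apply_symm_apply, RingEquiv.apply_symm_apply]) }
  obtain ⟨F, hF, hF'⟩ := exists_extMap σ T p
  obtain ⟨G, hG, hG'⟩ := exists_extMap e.symm.toRingHom T' p
  have hspan : Submodule.span A (Set.range (id : M → M)) = ⊤ := by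
    rw [Set.range_id, Submodule.span_univ]
  have hspan' : Submodule.span A' (Set.range (id : M' → M')) = ⊤ := by
    rw [Set.range_id, Submodule.span_univ]
  have h1 : G.comp F = AddMonoidHom.id _ := DRFam.hom_ext id hspan _ _ fun a b => by
    show G (F (a • ιMulti A p (fun i => id (b i)))) = a • ιMulti A p (fun i => id (b i))
    rw [hF, hF', hG, hG']
    show e.symm (e a) • ιMulti A p (fun i => t.symm (t (b i))) = _
    simp
  have h2 : F.comp G = AddMonoidHom.id _ := DRFam.hom_ext id hspan' _ _ fun a b => by
    show F (G (a • ιMulti A' p (fun i => id (b i)))) = a • ιMulti A' p (fun i => id (b i))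
    rw [hG, hG', hF, hF']
    show e (e.symm a) • ιMulti A' p (fun i => t (t.symm (b i))) = _
    simp
  exact ⟨{ F with invFun := G, left_inv := DFunLike.congr_fun h1, right_inv := DFunLike.congr_fun h2 }, hF, hF'⟩

end GrothLib.DeRhamVan15
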